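import Cfsg.Agent.ONC.L0D6

set_option autoImplicit false
set_option Elab.async false
set_option maxRecDepth 100000
set_option linter.all false

namespace Cfsg.Agent.ONC
open Cfsg.Agent.CGT

theorem l0_r100 : l0_E.run [4160, 68, 4164, 4172, 84, 0, 4180, 8276, 5, 12372, 5, 4124, 52, 4152, 4160, 4164, 84, 0, 4180, 8276, 5, 104, 1, 4200, 4, 8296, 8, 12392, 1, 16488, 8, 24680, 1, 108, 1, 4204, 16, 8300, 12, 12396, 1, 16492, 12, 20588, 16, 24684, 1, 28780, 16, 32876, 12, 36972, 1, 41068, 12, 36, 48, 4148, 4160, 4164, 4172, 84, 0, 4180, 20, 8276, 5, 12372, 5, 36, 40, 56, 4152, 4164, 12372, 5, 40, 12372, 5, 8284, 12, 16476, 12, 96, 16480, 8, 20576, 32864, 8, 4144, 4172, 16476, 12, 16480, 8, 104, 1, 8296, 8, 12392, 1, 36968, 1, 8300, 12, 12396, 1] l0_D0 [l0_K99_0, l0_K99_1, l0_K99_2, 0, l0_K99_4, 0, l0_K99_6, 0, l0_K99_8, 0, l0_K99_10, 0, l0_K99_12,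 0] (fun D K => Nat.beq D l0_D0 && beqL K [l0_K100_0, l0_K100_1, l0_K100_2, 0, l0_K100_4, 0, l0_K100_6, 0, l0_K100_8, 0, l0_K100_10, 0, l0_K100_12, 0]) = true := by decide +kernel
theorem l0_r101 : l0_E.run [20588, 16, 32876, 12, 4148, 4160, 8276, 5, 12372, 5, 4132, 4148, 8276, 5, 4176, 4152, 4164, 4172, 84, 0, 4180, 28, 32, 36, 4152, 4164, 4172, 84, 0, 4180, 20, 28, 32, 36, 40, 4136, 4152, 68, 4164, 4172, 84, 0, 4180, 20, 8276, 5, 12372, 5, 28, 4124, 32, 36, 4132, 40, 4136, 52, 56, 4152, 4160, 68, 4164, 76, 4172, 84, 0, 4180, 20, 8276, 5, 12372, 5, 28, 32, 40, 48, 4148, 56, 4152, 68, 4164, 76, 4172, 12372, 5, 4136, 4152, 4160, 4164, 4172, 8276, 5, 24, 80, 28, 32, 36, 4132, 4148, 4160, 8284, 12, 16476, 12, 12384, 5, 16480, 8, 48, 4144, 4160, 4164, 4172, 108, 1, 4204, 16, 8300, 12, 4188, 5, 4192, 5, 8276, 5, 8284, 12, 4192, 5, 32, 4132, 48,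 4144, 64, 8276, 5, 8288, 8, 104, 1] l0_D0 [l0_K100_0, l0_K100_1, l0_K100_2, 0, l0_K100_4, 0, l0_K100_6, 0, l0_K100_8, 0, l0_K100_10, 0, l0_K100_12, 0] (fun D K => Nat.beq D l0_D0 && beqL K [l0_K101_0, l0_K101_1, l0_K101_2, 0, l0_K101_4, 0, l0_K101_6, 0, l0_K101_8, 0, l0_K101_10, 0, l0_K101_12, 0]) = true := by decide +kernel
theorem l0_r102 : l0_E.run [12392, 1, 24680, 1, 36968, 1, 28780, 16, 41068, 12, 4148, 4160, 84, 0, 4180, 8276, 5, 4124, 4128, 4132, 48, 8284, 12, 32, 4144, 4172, 4204, 16, 28780, 16, 4148, 100, 4, 4196, 8, 8292, 12, 12388, 1, 32, 48, 4144, 52, 4148, 56, 4152, 64, 68, 4164, 4172, 84, 0, 4180, 8276, 5, 12372, 5, 28, 4124, 32, 4128, 36, 4132, 40, 4136, 48, 4144, 52, 4152, 68, 4164, 4180, 20, 8276, 5, 12372, 5, 28, 32, 4128, 36, 4132, 4136, 4148, 4152, 64, 4160, 68, 4172, 84, 0, 4180, 20, 12372, 5, 28, 4124, 32, 4128, 4132,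 40, 48, 4152, 68, 4164, 4172, 4180, 20, 12372, 5, 4132, 40, 56, 4152, 68, 4164, 76, 4172, 84, 36, 4180, 24, 4120, 44, 4140, 72] l0_D0 [l0_K101_0, l0_K101_1, l0_K101_2, 0, l0_K101_4, 0, l0_K101_6, 0, l0_K101_8, 0, l0_K101_10, 0, l0_K101_12, 0] (fun D K => Nat.beq D l0_D0 && beqL K [l0_K102_0, l0_K102_1, l0_K102_2, 0, l0_K102_4, 0, l0_K102_6, 0, l0_K102_8, 0, l0_K102_10, 0, l0_K102_12, 0]) = true := by decide +kernel
theorem l0_r103 : l0_E.run [4176, 28, 32, 36, 40, 48, 52, 56, 76, 8276, 5, 12372, 5, 32, 4128, 4132, 4144, 52, 4148, 84, 0, 4180, 8276, 5, 4128, 4132, 48, 24, 44, 48, 52, 88, 0, 8280, 12, 12376, 8, 36952, 8, 92, 4188, 5, 8284, 12, 12380, 5, 16476, 12, 20572, 32860, 12, 36956, 1, 96, 4192, 5, 8288, 8, 12384, 5, 16480, 8, 20576, 28, 32, 4128, 36, 4132, 40, 4136, 48, 4144, 52, 56, 64, 68, 4164, 76, 4172, 84, 0, 4180, 20, 8276, 5, 12372,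 5, 32, 4128, 36, 4132, 4136, 48, 52, 4148, 4152, 64, 68, 76, 8276, 5, 12372, 5, 40, 24, 4120, 44, 4140, 4168, 4176, 48, 52, 56, 4152, 4160, 76, 12376, 8, 4188, 5, 16476, 12] l0_D0 [l0_K102_0, l0_K102_1, l0_K102_2, 0, l0_K102_4, 0, l0_K102_6, 0, l0_K102_8, 0, l0_K102_10, 0, l0_K102_12, 0] (fun D K => Nat.beq D l0_D0 && beqL K [l0_K103_0, l0_K103_1, l0_K103_2, 0, l0_K103_4, 0, l0_K103_6, 0, l0_K103_8, 0, l0_K103_10, 0, l0_K103_12, 0]) = true := by decide +kernel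
theorem l0_r104 : l0_E.run [4192, 5, 8288, 8, 48, 64, 68, 84, 0, 4124, 4128, 4132, 48, 104, 1, 4200, 4, 8296, 8, 12392, 1, 16488, 8, 20584, 4, 24680, 1, 28776, 4, 108, 1, 8300, 12, 16492, 12, 20588, 16, 24684, 1, 28780, 16, 32876, 12, 36972, 1, 41068, 12, 32, 4136, 48, 4144, 4148, 4152, 64, 4160, 4164, 4172, 84, 0, 4180, 8276, 5, 12372, 5, 4124, 4128, 4132, 4136, 48, 4148, 4160, 4164, 8276, 5, 4148, 84, 0, 4180, 4152, 44, 4140, 72, 4176, 28, 4152, 4164, 4172, 84, 28, 4124, 4128, 36, 4132, 4136, 4152, 4164, 4172, 84, 0, 4180, 8276, 5, 12372, 5, 28, 4124, 32, 4128, 4132, 4136, 48, 52, 56, 4152, 4164, 4172, 84, 0, 4180, 28, 4124, 4128, 36, 4132, 40, 48] l0_D0 [l0_K103_0, l0_K103_1, l0_K103_2, 0, l0_K103_4, 0, l0_K103_6, 0, l0_K103_8, 0, l0_K103_10, 0, l0_K103_12, 0] (fun D K => Nat.beq D l0_D0 && beqL K [l0_K104_0, l0_K104_1, l0_K104_2, 0, l0_K104_4,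 0, l0_K104_6, 0, l0_K104_8, 0, l0_K104_10, 0, l0_K104_12, 0]) = true := by decide +kernel
theorem l0_r105 : l0_E.run [52, 4152, 4164, 4172, 84, 0, 4180, 20, 8276, 5, 12372, 5, 32, 36, 40, 4136, 4152, 68, 4164, 4172, 84, 0, 4180, 20, 8276, 5, 12372, 5, 28, 4124, 32, 4128, 36, 4132, 40, 4136, 4144, 56, 4152, 4160, 68, 4164, 76, 4172, 84, 0, 4180, 20, 8276, 5, 12372, 5, 32, 4128, 40, 4148, 4152, 4160, 68, 4164, 76, 4172, 84, 0, 4180, 20, 12372, 5, 28, 4124, 32, 4128, 4132, 40, 48, 4148, 4152, 4160, 4164, 76, 4172, 84, 12372, 5, 36, 4152, 4180, 20, 28, 32, 40, 4152, 4164, 4172, 84, 28, 36, 4164, 4172, 84, 0, 4180, 20, 4128, 40, 4152, 84, 0, 4180, 24, 4120, 80, 28, 36, 4132, 48, 4148, 4160, 12372, 5, 24664, 8284, 12, 12380, 5, 16476, 12, 20572, 96, 12384, 5, 16480, 8, 20576, 32864, 8, 36960, 1, 48, 4148, 68, 4164, 84, 0, 4180, 4152, 4172] l0_D0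 [l0_K104_0, l0_K104_1, l0_K104_2, 0, l0_K104_4, 0, l0_K104_6, 0, l0_K104_8, 0, l0_K104_10, 0, l0_K104_12, 0] (fun D K => Nat.beq D l0_D0 && beqL K [l0_K105_0, l0_K105_1, l0_K105_2, 0, l0_K105_4, 0, l0_K105_6, 0, l0_K105_8, 0, l0_K105_10, 0, l0_K105_12, 0]) = true := by decide +kernel
theorem l0_r106 : l0_E.run [12376, 8, 32856, 12, 36952, 8, 92, 8288, 8, 36960, 1, 4164, 84, 0, 104, 1, 4200, 4, 12392, 1, 16488, 8, 20584, 4, 8300, 12, 20588, 16, 41068, 12, 4148, 4152, 4160, 84, 0, 4180, 4124, 4128, 4132, 4136, 52, 12380, 5, 84, 0, 4128, 4132, 4136, 4144, 4148, 4152, 4164, 8276, 5, 84, 0, 4180, 4132, 12376, 8, 36952, 8, 8284, 12, 64, 68, 44, 20588, 16, 8292, 12, 12388, 1, 48, 4152, 4172, 84, 0, 4124, 32, 4128, 36, 4132, 40, 4136, 64, 68, 4164, 8276, 5, 12372, 5, 28, 4128, 4132, 4148, 4152, 4160, 4164, 4172, 84, 0, 4180, 12372, 5, 28, 4124, 32,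 4128, 36, 4132, 40, 4136, 48, 4152, 4164, 4172, 8276, 5, 12372, 5, 4132] l0_D0 [l0_K105_0, l0_K105_1, l0_K105_2, 0, l0_K105_4, 0, l0_K105_6, 0, l0_K105_8, 0, l0_K105_10, 0, l0_K105_12, 0] (fun D K => Nat.beq D l0_D0 && beqL K [l0_K106_0, l0_K106_1, l0_K106_2, 0, l0_K106_4, 0, l0_K106_6, 0, l0_K106_8, 0, l0_K106_10, 0, l0_K106_12, 0]) = true := by decide +kernel
theorem l0_r107 : l0_E.run [4148, 4160, 24, 4120, 80, 28, 32, 36, 40, 4160, 12372, 5, 4124, 4120, 8284, 12, 36956, 1, 16480, 8, 20576, 4144, 4164, 84, 0, 4124, 4132, 4136, 4148, 4152, 8276, 5, 84, 0, 4180, 4132, 8280, 12, 16488, 8, 12396, 1, 24684, 1, 84, 0, 4128, 104, 1, 12351, 28751, 20, 28755, 24675, 4, 32, 36, 40, 48, 52, 56, 4152, 4164, 4172, 84, 4180, 20, 8276, 5, 12372, 5, 28, 32, 36, 40, 4136, 52, 4152, 4164, 4172, 84, 0, 4180, 8276, 5, 12372, 5, 28, 32, 36, 40, 4136, 4152,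 4164, 4172, 84, 0, 4180, 8276, 5, 12372, 5, 28, 32, 36, 4132, 40, 4136, 52, 56, 4152, 4164, 4172, 84, 4180, 20, 8276, 5, 12372, 5, 32, 36, 40, 4136, 4152, 68, 4164, 76, 84, 0, 4180, 20, 8276, 5, 12372, 5, 28, 4124] l0_D0 [l0_K106_0, l0_K106_1, l0_K106_2, 0, l0_K106_4, 0, l0_K106_6, 0, l0_K106_8, 0, l0_K106_10, 0, l0_K106_12, 0] (fun D K => Nat.beq D l0_D0 && beqL K [l0_K107_0, l0_K107_1, l0_K107_2, 0, l0_K107_4, 0, l0_K107_6, 0, l0_K107_8, 0, l0_K107_10, 0, l0_K107_12, 0]) = true := by decide +kernel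
theorem l0_r108 : l0_E.run [40, 56, 4152, 68, 4164, 76, 84, 0, 4180, 20, 12372, 5, 4124, 4128, 4132, 40, 48, 56, 4160, 76, 4132, 24, 4120, 4140, 80, 28, 4124, 4132, 4148, 64, 68, 72, 4128, 4144, 88, 0, 8280, 12376, 8, 36952, 8, 4188, 5, 8284, 12380, 5, 4192, 5, 12384, 5, 16480, 8, 36, 40, 48, 52, 4148, 56, 64, 4160, 68, 4164, 84, 0, 8276, 5, 12372, 5, 4124, 32, 36, 40, 4136, 48, 52, 4148, 4152, 8276, 5, 12372, 5, 4124, 4132, 4144, 64, 84, 0, 4180, 24, 4120, 44, 4140, 72, 32, 36, 40, 48, 32, 24, 4120, 4124, 4128, 4132, 52, 56, 12372, 5, 84, 0, 4180, 4132, 12376, 8, 8284, 12, 4192, 5, 16480, 8, 36960, 1, 64, 4164, 92, 12384, 5, 8276, 5] l0_D0 [l0_K107_0, l0_K107_1, l0_K107_2, 0, l0_K107_4, 0, l0_K107_6, 0, l0_K107_8, 0, l0_K107_10, 0, l0_K107_12, 0] (fun D K => Nat.beq D l0_D0 && beqL K [l0_K108_0, l0_K108_1, l0_K108_2, 0, l0_K108_4, 0, l0_K108_6,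 0, l0_K108_8, 0, l0_K108_10, 0, l0_K108_12, 0]) = true := by decide +kernel
theorem l0_r109 : l0_E.run [44, 48, 52, 56, 4192, 5, 12392, 1, 16488, 8, 20584, 4, 24680, 1, 28776, 4, 32872, 8, 36968, 1, 41064, 8, 108, 1, 4204, 16, 12396, 1, 20588, 24684, 1, 32876, 12, 36972, 1, 4144, 4148, 4152, 64, 84, 0, 4180, 4124, 4128, 4132, 4136, 48, 4160, 4164, 84, 0, 8276, 5, 4124, 4132, 4136, 4148, 4152, 84, 0, 4180, 4124, 4120, 44, 4140, 28, 4144, 4120, 92, 8284, 12, 12380, 5, 16476, 12, 96, 8288, 8, 12384, 5, 16480, 8, 28, 4164, 4172, 84, 0, 4180, 4124, 4128, 96, 32, 40, 48, 56, 76, 12372, 5, 24, 8288, 8, 16480, 8, 4164, 4172, 12372, 5, 4136, 4152, 4164] l0_D0 [l0_K108_0, l0_K108_1, l0_K108_2, 0, l0_K108_4, 0, l0_K108_6, 0, l0_K108_8, 0, l0_K108_10, 0, l0_K108_12, 0] (fun D K => Nat.beq D l0_D0 && beqL K [l0_K109_0, l0_K109_1, l0_K109_2, 0, l0_K109_4,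 0, l0_K109_6, 0, l0_K109_8, 0, l0_K109_10, 0, l0_K109_12, 0]) = true := by decide +kernel
theorem l0_r110 : l0_E.run [4172, 84, 0, 4180, 20, 8276, 5, 12372, 5, 32, 36, 4136, 4152, 68, 4164, 4172, 84, 0, 4180, 20, 12372, 5, 28, 32, 40, 4136, 4152, 68, 4164, 4172, 84, 0, 4180, 8276, 5, 12372, 5, 28, 4124, 32, 36, 40, 4136, 4152, 64, 68, 4164, 4172, 84, 0, 4180, 20, 8276, 5, 12372, 5, 28, 4124, 32, 4128, 4132, 40, 4136, 48, 4152, 68, 4164, 76, 4172, 84, 0, 4180, 20, 8276, 5, 12372, 5, 28, 4124, 32, 36, 4132, 40, 4136, 52, 56, 4152, 64, 4160, 68, 4164, 76, 4172, 84, 0, 4180, 8276, 5, 12372, 5, 28, 32, 36, 4132, 40, 4136, 4144, 52, 56, 4152, 4160, 68, 8276, 5, 4148, 24, 4120, 44, 80, 4176, 36, 4132, 4148, 64, 4160, 8276, 5, 12372, 5, 4132, 4148, 64, 4160, 68, 28, 4128, 36, 40, 4144, 8276, 5, 32, 36, 4136, 4152, 76, 84, 0, 4180, 4124, 4128, 48,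 24, 72, 4168, 4176, 36, 4132, 40, 4136, 4148, 4152, 64, 68] l0_D0 [l0_K109_0, l0_K109_1, l0_K109_2, 0, l0_K109_4, 0, l0_K109_6, 0, l0_K109_8, 0, l0_K109_10, 0, l0_K109_12, 0] (fun D K => Nat.beq D l0_D0 && beqL K [l0_K110_0, l0_K110_1, l0_K110_2, 0, l0_K110_4, 0, l0_K110_6, 0, l0_K110_8, 0, l0_K110_10, 0, l0_K110_12, 0]) = true := by decide +kernel
theorem l0_r111 : l0_E.run [76, 8276, 5, 12372, 5, 36, 40, 12372, 5, 88, 0, 8280, 12, 12376, 8, 16472, 92, 4188, 5, 8284, 12, 12380, 5, 96, 4192, 5, 12384, 5, 36, 40, 64, 68, 8276, 5, 12372, 5, 4124, 32, 4128, 36, 40, 8276, 5, 12372, 5, 4124, 4128, 64, 68, 44, 4168, 48, 52, 56, 12376, 8, 36952, 8, 4188, 5, 8284, 12, 20572, 8288, 8, 16480, 8, 28, 48, 4152, 64, 68, 4164, 4124, 44, 48, 56, 20572, 104, 1, 4200, 4, 8296, 8, 12392, 1, 16488, 8, 20584, 4, 24680, 1, 32872, 8, 41064, 8, 108, 1, 4204, 16,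 8300, 12, 12396, 1] l0_D0 [l0_K110_0, l0_K110_1, l0_K110_2, 0, l0_K110_4, 0, l0_K110_6, 0, l0_K110_8, 0, l0_K110_10, 0, l0_K110_12, 0] (fun D K => Nat.beq D l0_D0 && beqL K [l0_K111_0, l0_K111_1, l0_K111_2, 0, l0_K111_4, 0, l0_K111_6, 0, l0_K111_8, 0, l0_K111_10, 0, l0_K111_12, 0]) = true := by decide +kernel
theorem l0_r112 : l0_E.run [16492, 12, 20588, 16, 24684, 1, 28780, 16, 32876, 12, 36972, 1, 41068, 12, 28, 32, 36, 4132, 4136, 48, 4144, 52, 4148, 4152, 64, 4160, 4164, 76, 84, 0, 4180, 20, 8276, 5, 12372, 5, 28, 4124, 32, 4128, 36, 4132, 40, 4136, 48, 4144, 4148, 56, 4152, 64, 4160, 68, 4164, 76, 4172, 84, 0, 4180, 20, 8276, 5, 12372, 5, 28, 4124, 32, 4128, 36, 4132, 40, 48, 4144, 52, 4148, 56, 4152, 4160, 68, 4164, 76, 4172, 84, 0, 4180, 20, 8276, 5, 12372, 5, 32, 4128, 4132, 40, 4136, 4148, 4152, 68, 4164, 4172, 8276, 5, 12372, 5,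 32, 36, 4136, 4152, 68, 4164, 84, 0, 4180, 20, 8276, 5, 28, 32, 40, 4152, 4160, 4164, 4172, 12372, 5, 28, 32, 4132, 4136, 4148, 4152, 64, 68, 4164, 8276, 5, 4160, 24, 4120, 44, 4140, 72, 4168, 80, 4176, 28, 4124, 4132, 4136] l0_D0 [l0_K111_0, l0_K111_1, l0_K111_2, 0, l0_K111_4, 0, l0_K111_6, 0, l0_K111_8, 0, l0_K111_10, 0, l0_K111_12, 0] (fun D K => Nat.beq D l0_D0 && beqL K [l0_K112_0, l0_K112_1, l0_K112_2, 0, l0_K112_4, 0, l0_K112_6, 0, l0_K112_8, 0, l0_K112_10, 0, l0_K112_12, 0]) = true := by decide +kernel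
theorem l0_r113 : l0_E.run [4148, 64, 4160, 68, 8276, 5, 12372, 5, 4132, 4120, 56, 88, 0, 8280, 12, 12376, 8, 16472, 92, 4188, 5, 8284, 12, 12380, 5, 32860, 12, 96, 8288, 8, 12384, 5, 16480, 8, 20576, 32864, 8, 36960, 1, 28, 32, 36, 4132, 40, 4136, 48, 4144, 52, 4152, 64, 4164, 4172, 84, 8276, 5, 12372, 5, 28, 4124, 32, 36, 40, 4152, 4164, 4172, 84, 0, 4180, 12372, 5, 28, 4128, 36, 4144, 4152, 4164, 4172, 84, 0, 4180, 20, 28, 32, 36, 40, 4136, 4152, 4164, 4172, 84, 0, 4180, 12372, 5, 28, 32, 36, 4136, 4152, 4164, 4172, 84, 0, 4180, 8276, 5, 12372, 5, 28, 32, 4128, 40, 4152, 4164, 84, 0, 4180, 12372, 5, 4152, 24, 44, 72, 4168, 80, 48, 56, 76, 4120, 12376, 8] l0_D0 [l0_K112_0, l0_K112_1, l0_K112_2, 0, l0_K112_4, 0, l0_K112_6, 0, l0_K112_8, 0, l0_K112_10, 0, l0_K112_12, 0] (fun D K => Nat.beq D l0_D0 && beqL K [l0_K113_0, l0_K113_1, l0_K113_2,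 0, l0_K113_4, 0, l0_K113_6, 0, l0_K113_8, 0, l0_K113_10, 0, l0_K113_12, 0]) = true := by decide +kernel
theorem l0_r114 : l0_E.run [92, 4188, 5, 8284, 12, 20572, 8288, 8, 16480, 8, 20576, 36960, 1, 4144, 64, 4160, 4172, 4164, 4152, 44, 72, 48, 52, 56, 8280, 12, 92, 4188, 5, 20572, 4192, 5, 8288, 8, 12384, 5, 16480, 8, 36960, 1, 4144, 64, 44, 48, 52, 56, 92, 12380, 5, 20572, 8288, 8, 12384, 5, 36960, 1, 64, 8276, 5, 44, 48, 52, 56, 4188, 5, 12380, 5, 20572, 4192, 5, 12384, 5, 64, 4160, 12372, 5, 72, 20572, 4192, 5, 36960, 1, 64, 8276, 5, 4188, 5, 104, 1, 4200, 4, 8296, 8, 12392, 1] l0_D0 [l0_K113_0, l0_K113_1, l0_K113_2, 0, l0_K113_4, 0, l0_K113_6, 0, l0_K113_8, 0, l0_K113_10, 0, l0_K113_12, 0] (fun D K => Nat.beq D l0_D0 && beqL K [l0_K114_0, l0_K114_1, l0_K113_2, 0, l0_K114_4, 0, l0_K114_6, 0, l0_K114_8, 0, l0_K114_10, 0, l0_K114_12, 0])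 = true := by decide +kernel
theorem l0_r115 : l0_E.run [16488, 8, 20584, 4, 24680, 1, 28776, 4, 32872, 8, 41064, 8, 108, 1, 4204, 8300, 12, 12396, 1, 20588, 16, 24684, 1, 28780, 16, 32876, 12, 36972, 1, 41068, 12, 28, 32, 4132, 4136, 48, 4144, 52, 4148, 4152, 64, 4160, 68, 4164, 4172, 84, 0, 4180, 8276, 5, 12372, 5, 28, 4124, 32, 4128, 4132, 4136, 48, 4148, 4152, 4160, 4164, 4172, 84, 0, 4180, 8276, 5, 4132, 56, 4152, 4164, 4172, 84, 0, 4180, 28, 4124, 32, 4128, 36, 4132, 4136, 4152, 4164, 4172, 84, 0, 4180, 20, 8276, 5, 12372, 5, 32, 36, 40, 4136, 4152, 4164, 4172, 84, 0, 4180, 20, 8276, 5, 12372, 5, 28, 32, 36, 40, 4136, 4152, 4164, 4172, 84, 0, 4180, 8276, 5, 12372, 5, 28, 4152, 4164, 4172, 84, 0, 4180, 8276, 5, 4128, 4152, 4164] l0_D0 [l0_K114_0, l0_K114_1, l0_K113_2, 0, l0_K114_4, 0, l0_K114_6, 0, l0_K114_8, 0, l0_K114_10, 0, l0_K114_12,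 0] (fun D K => Nat.beq D l0_D0 && beqL K [l0_K115_0, l0_K115_1, l0_K115_2, 0, l0_K115_4, 0, l0_K115_6, 0, l0_K115_8, 0, l0_K115_10, 0, l0_K115_12, 0]) = true := by decide +kernel
theorem l0_r116 : l0_E.run [4120, 44, 4168, 4132, 64, 8284, 12, 12380, 5, 16476, 12, 20572, 32860, 12, 96, 4192, 5, 8288, 8, 12384, 5, 16480, 8, 20576, 28, 32, 4132, 4136, 48, 4144, 4148, 4160, 4172, 84, 0, 4180, 20, 8276, 5, 12372, 5, 4128, 4132, 40, 4144, 56, 4152, 4164, 76, 4172, 84, 0, 4180, 12372, 5, 4152, 4164, 16476, 12, 4172, 84, 0, 4180, 4128, 104, 1, 4200, 4, 16488, 8, 20584, 4, 24680, 1, 28776, 4, 32872, 8, 36968, 1, 41064, 8, 4204, 16, 8300, 12, 12396, 1, 20588, 16, 24684, 1, 28780, 16, 32876, 12, 36972, 1, 41068, 12, 28, 32, 4132, 4136, 48, 4144, 52] l0_D0 [l0_K115_0, l0_K115_1, l0_K115_2, 0, l0_K115_4, 0, l0_K115_6, 0, l0_K115_8, 0, l0_K115_10, 0, l0_K115_12,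 0] (fun D K => Nat.beq D l0_D0 && beqL K [l0_K116_0, l0_K116_1, l0_K116_2, 0, l0_K116_4, 0, l0_K116_6, 0, l0_K116_8, 0, l0_K116_10, 0, l0_K116_12, 0]) = true := by decide +kernel
theorem l0_r117 : l0_E.run [4148, 4152, 64, 4160, 68, 4164, 84, 0, 8276, 5, 12372, 5, 4124, 4132, 48, 4148, 64, 4120, 44, 4140, 72, 4168, 4144, 52, 56, 64, 32, 48, 52, 12372, 5, 4188, 5, 8284, 12, 12380, 5, 16476, 12, 28764, 1, 4192, 5, 12384, 5, 16480, 8, 4144, 32, 4124, 72, 12380, 5, 96, 92, 4200, 4, 12392, 1, 20584, 4, 24680, 1, 41064, 8, 108, 1, 12396, 1, 16492, 12, 20588, 16, 24684, 1, 28780, 16, 41068, 12, 32, 4132, 4136, 48, 52, 64, 68, 84, 0, 12372, 5, 4124, 4132, 8284, 12, 8288, 8, 12392, 1, 20584, 4, 32872, 8, 41064, 8, 12396, 1] l0_D0 [l0_K116_0, l0_K116_1, l0_K116_2, 0, l0_K116_4, 0, l0_K116_6, 0, l0_K116_8, 0, l0_K116_10, 0, l0_K116_12, 0] (fun D K =>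 Nat.beq D l0_D0 && beqL K [l0_K117_0, l0_K117_1, l0_K117_2, 0, l0_K117_4, 0, l0_K117_6, 0, l0_K117_8, 0, l0_K117_10, 0, l0_K117_12, 0]) = true := by decide +kernel
theorem l0_r118 : l0_E.run [16492, 12, 20588, 16, 36, 52, 84, 0, 8276, 5, 4132, 4136, 56, 8276, 5, 60, 100, 4, 4196, 8, 8292, 12, 12388, 1, 28, 32, 4128, 36, 40, 4136, 48, 4144, 52, 56, 4152, 64, 4160, 68, 4164, 4172, 84, 0, 4180, 20, 8276, 5, 12372, 5, 28, 4124, 32, 4128, 36, 4132, 40, 4136, 48, 52, 4152, 68, 4164, 4172, 84, 0, 4180, 20, 8276, 5, 12372, 5, 28, 4124, 32, 4128, 36, 4132, 40, 4136, 48, 56, 4152, 64, 68, 4164, 4172, 84, 0, 4180, 20, 8276, 5, 12372, 5, 28, 4124, 32, 4128, 36, 4132, 40, 4136, 48, 52, 56, 4152, 64, 68, 4164, 76, 4172, 4180, 20, 8276, 5, 12372, 5, 28, 4124, 32, 4128, 36, 4132, 40, 4136, 48, 4144, 52, 4148, 56, 4152, 4160, 68, 4164, 4172, 84, 0, 4180, 20,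 8276, 5, 12372] l0_D0 [l0_K117_0, l0_K117_1, l0_K117_2, 0, l0_K117_4, 0, l0_K117_6, 0, l0_K117_8, 0, l0_K117_10, 0, l0_K117_12, 0] (fun D K => Nat.beq D l0_D0 && beqL K [l0_K118_0, l0_K118_1, l0_K118_2, 0, l0_K118_4, 0, l0_K118_6, 0, l0_K118_8, 0, l0_K118_10, 0, l0_K118_12, 0]) = true := by decide +kernel
theorem l0_r119 : l0_E.run [5, 4124, 4128, 4132, 40, 4136, 4148, 56, 64, 4160, 68, 4164, 76, 4172, 4180, 20, 8276, 5, 12372, 5, 4128, 36, 4132, 40, 4136, 4148, 56, 64, 4160, 68, 4164, 76, 84, 0, 4180, 8276, 5, 12372, 5, 4128, 4132, 4160, 24, 4120, 44, 4140, 72, 4168, 80, 4176, 36, 4132, 4136, 48, 4144, 52, 4148, 56, 64, 4160, 68, 4164, 76, 4172, 8276, 5, 12372, 5, 28, 32, 4132, 4144, 52, 56, 4152, 4160, 4164, 12372, 5, 4124, 32, 36, 4132, 40, 48, 52, 56, 12372, 5, 4124, 32, 4128, 36, 40, 4144, 4148, 84, 0, 4180, 12372, 5, 28, 4124, 32, 36,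 4132, 40, 52, 56, 8276, 5, 12372, 5, 4128, 84, 0, 4180, 4128, 4132, 48, 24, 4120, 44, 72, 4128, 48, 52, 56, 12372, 5, 4140, 64, 68, 8280, 12, 12376, 8, 16472, 12, 20568, 92, 4188, 5, 8284, 12] l0_D0 [l0_K118_0, l0_K118_1, l0_K118_2, 0, l0_K118_4, 0, l0_K118_6, 0, l0_K118_8, 0, l0_K118_10, 0, l0_K118_12, 0] (fun D K => Nat.beq D l0_D0 && beqL K [l0_K119_0, l0_K119_1, l0_K119_2, 0, l0_K119_4, 0, l0_K119_6, 0, l0_K119_8, 0, l0_K119_10, 0, l0_K119_12, 0]) = true := by decide +kernel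
theorem l0_r120 : l0_E.run [12380, 5, 20572, 96, 8288, 8, 12384, 5, 16480, 8, 36960, 1, 28, 32, 4132, 4136, 48, 4144, 4148, 4152, 64, 4160, 68, 4164, 4172, 84, 0, 4180, 8276, 5, 12372, 5, 28, 4124, 32, 4128, 36, 4132, 40, 4136, 4144, 52, 4148, 56, 4152, 4164, 4172, 84, 0, 4180, 8276, 5, 12372, 5, 4124, 32, 4128, 36, 40, 4136, 4152, 84, 0, 4180, 8276, 5, 12372, 5, 4124, 4128, 4120, 44, 4140, 72, 4168, 80, 48, 52, 56, 64, 68, 76, 4144, 24, 4124, 12376, 8, 16472, 12, 4188, 5, 8284, 12, 12380, 5, 96, 8288, 8, 12384, 5, 48, 52, 56, 4164, 84, 0, 8276, 5, 12372, 5, 4128, 4132, 4136, 8276, 5, 84, 0, 4180, 4128, 4152, 4140, 72, 76, 8280, 12, 12376, 8, 8284, 12, 4144] l0_D0 [l0_K119_0, l0_K119_1, l0_K119_2, 0, l0_K119_4, 0, l0_K119_6, 0, l0_K119_8, 0, l0_K119_10, 0, l0_K119_12, 0] (fun D K => Nat.beq D l0_D0 && beqL K [l0_K120_0, l0_K120_1, l0_K120_2,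 0, l0_K120_4, 0, l0_K120_6, 0, l0_K120_8, 0, l0_K120_10, 0, l0_K120_12, 0]) = true := by decide +kernel
theorem l0_r121 : l0_E.run [4172, 104, 1, 4200, 4, 8296, 8, 12392, 1, 16488, 8, 20584, 4, 28776, 4, 32872, 8, 36968, 1, 41064, 8, 108, 1, 4204, 16, 8300, 12, 12396, 1, 16492, 12, 20588, 16, 24684, 1, 28780, 16, 32876, 12, 36972, 1, 41068, 12, 28, 32, 4128, 36, 4132, 40, 48, 4144, 52, 4148, 4152, 64, 4160, 68, 4164, 4172, 84, 0, 4180, 20, 8276, 5, 12372, 5, 28, 4124, 32, 4128, 36, 4132, 40, 4136, 48, 4144, 52, 4148, 56, 4152, 64, 4160, 68, 4164, 76, 4172, 84, 0, 4180, 8276, 5, 12372, 5, 28, 4124, 4128, 4132, 4136, 48, 4144, 52, 4148, 56, 4152, 4160, 68, 84, 0, 4180, 8276, 5, 4124, 32, 4128, 4132, 48, 4144, 52, 4148, 56, 4152, 4160, 8276] l0_D0 [l0_K120_0, l0_K120_1, l0_K120_2, 0, l0_K120_4, 0, l0_K120_6, 0, l0_K120_8, 0, l0_K120_10, 0, l0_K120_12,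 0] (fun D K => Nat.beq D l0_D0 && beqL K [l0_K121_0, l0_K121_1, l0_K121_2, 0, l0_K121_4, 0, l0_K121_6, 0, l0_K121_8, 0, l0_K121_10, 0, l0_K121_12, 0]) = true := by decide +kernel
theorem l0_r122 : l0_E.run [5, 12372, 5, 32, 4132, 4144, 4148, 8276, 5, 12372, 5, 32, 4132, 52, 56, 64, 68, 12372, 5, 84, 0, 4180, 4124, 4128, 4120, 44, 4140, 72, 4168, 80, 32, 4128, 36, 4132, 48, 4144, 52, 56, 64, 4160, 68, 76, 8276, 5, 4124, 4144, 84, 0, 4180, 4124, 4128, 4132, 4144, 4148, 4152, 64, 4160, 68, 4164, 24, 44, 4140, 28, 32, 88, 0, 8280, 12, 12376, 92, 4188, 5, 8284, 12, 12380, 5, 16476, 12, 20572, 32860, 12, 36956, 1, 96, 4192, 5, 8288, 8, 12384, 5, 16480, 8, 20576, 24672, 8, 32864, 8, 28, 32, 48, 4144, 4148, 4152, 64, 4160, 68, 4164, 4172, 84, 0, 8276, 5, 12372, 5, 4128, 4148, 4152, 64, 4160, 4164, 4172, 84, 0, 4180, 12372, 5, 4124] l0_D0 [l0_K121_0,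 l0_K121_1, l0_K121_2, 0, l0_K121_4, 0, l0_K121_6, 0, l0_K121_8, 0, l0_K121_10, 0, l0_K121_12, 0] (fun D K => Nat.beq D l0_D0 && beqL K [l0_K122_0, l0_K122_1, l0_K122_2, 0, l0_K122_4, 0, l0_K122_6, 0, l0_K122_8, 0, l0_K122_10, 0, l0_K122_12, 0]) = true := by decide +kernel
theorem l0_r123 : l0_E.run [4132, 4136, 52, 4148, 56, 4152, 64, 68, 8276, 5, 4120, 44, 4140, 72, 4168, 80, 4176, 4128, 4132, 4136, 48, 4144, 52, 4148, 56, 4152, 64, 68, 76, 8276, 5, 12372, 5, 24, 72, 28, 76, 16472, 12, 4188, 5, 8284, 12, 16476, 12, 32860, 12, 96, 4192, 5, 12384, 5, 16480, 8, 32864, 8, 48, 4152, 84, 0, 4180, 4132, 8284, 12, 16476, 12, 32860, 12, 16480, 8, 20576, 48, 4144, 92, 8284, 12, 20576, 104, 1, 4200, 4, 8296, 8, 12392, 1, 16488, 8, 20584, 4, 24680, 1, 28776, 4, 32872, 8, 36968, 1, 41064, 8, 108, 1] l0_D0 [l0_K122_0, l0_K122_1, l0_K122_2, 0, l0_K122_4,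 0, l0_K122_6, 0, l0_K122_8, 0, l0_K122_10, 0, l0_K122_12, 0] (fun D K => Nat.beq D l0_D0 && beqL K [l0_K123_0, l0_K123_1, l0_K123_2, 0, l0_K123_4, 0, l0_K123_6, 0, l0_K123_8, 0, l0_K123_10, 0, l0_K123_12, 0]) = true := by decide +kernel
theorem l0_r124 : l0_E.run [4204, 16, 8300, 12, 12396, 1, 16492, 12, 20588, 16, 24684, 1, 28780, 16, 32876, 12, 36972, 1, 41068, 12, 28, 32, 4128, 36, 4132, 4136, 48, 4144, 52, 4148, 4152, 64, 4160, 68, 4164, 76, 4172, 84, 0, 4180, 20, 8276, 5, 12372, 5, 32, 4128, 36, 4132, 40, 4136, 48, 4144, 52, 4148, 56, 4152, 68, 4164, 76, 4172, 84, 0, 4180, 8276, 5, 12372, 5, 28, 4128, 36, 4132, 4144, 52, 4148, 56, 4152, 4160, 4164, 4172, 84, 0, 4180, 8276, 5, 4132, 48, 4148, 4152, 64, 84, 0, 4180, 4120, 44, 4140, 72, 4168, 48, 4144, 8280, 12, 92, 4188, 5, 8284, 12, 12380, 5, 16476, 12, 96, 4192, 5, 8288, 8, 12384, 5,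 16480, 8, 20576] l0_D0 [l0_K123_0, l0_K123_1, l0_K123_2, 0, l0_K123_4, 0, l0_K123_6, 0, l0_K123_8, 0, l0_K123_10, 0, l0_K123_12, 0] (fun D K => Nat.beq D l0_D0 && beqL K [l0_K124_0, l0_K124_1, l0_K124_2, 0, l0_K124_4, 0, l0_K124_6, 0, l0_K124_8, 0, l0_K124_10, 0, l0_K124_12, 0]) = true := by decide +kernel
theorem l0_r125 : l0_E.run [32, 4136, 48, 4144, 4148, 4160, 4164, 4172, 84, 0, 8276, 5, 12372, 5, 4132, 4152, 4164, 84, 0, 4180, 4152, 44, 4176, 4152, 4164, 4172, 84, 0, 4180, 12372, 5, 4124, 32, 36, 4136, 4152, 68, 4164, 4172, 84, 0, 4180, 20, 8276, 5, 12372, 5, 28, 4124, 32, 4128, 36, 40, 4136, 56, 4152, 68, 4164, 4172, 84, 0, 4180, 20, 8276, 5, 12372, 5, 28, 4124, 32, 4128, 36, 4132, 40, 4136, 48, 52, 56, 4152, 68, 4164, 4172, 84, 0, 4180, 20, 8276, 5, 12372, 5, 28, 4124, 32, 4128, 36, 4132, 40, 4136, 4144, 52, 4148, 56, 4152, 64, 4160,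 68, 4164, 4172, 84, 0, 4180, 20, 8276, 5, 12372, 5, 28, 4124, 32, 4128, 36, 4132, 40, 4136, 48, 4144, 56, 4152, 68, 4164, 4172, 84, 0, 4180, 20, 8276, 5, 12372, 5, 28, 4124, 32, 4128, 36, 4132, 40, 4136, 4152, 4160, 68, 4164, 76, 4172, 84, 0, 4180, 8276, 5, 12372, 5, 28, 4124, 32, 4132, 52, 4152, 68, 4160, 4120] l0_D0 [l0_K124_0, l0_K124_1, l0_K124_2, 0, l0_K124_4, 0, l0_K124_6, 0, l0_K124_8, 0, l0_K124_10, 0, l0_K124_12, 0] (fun D K => Nat.beq D l0_D0 && beqL K [l0_K125_0, l0_K125_1, l0_K125_2, 0, l0_K125_4, 0, l0_K125_6, 0, l0_K125_8, 0, l0_K125_10, 0, l0_K125_12, 0]) = true := by decide +kernel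
theorem l0_r126 : l0_E.run [80, 4176, 64, 8284, 12, 12380, 5, 16476, 12, 20572, 28764, 1, 96, 12384, 5, 16480, 8, 32, 4132, 48, 4144, 52, 4148, 4152, 4164, 4172, 84, 0, 4180, 8276, 5, 4128, 4136, 4152, 8276, 5, 84, 0, 4180, 4128, 4132, 92, 4160, 4164, 52, 104, 1, 4200, 4, 8296, 8, 12392, 1, 16488, 8, 20584, 4, 24680, 1, 28776, 4, 32872, 8, 36968, 1, 41064, 8, 108, 1, 4204, 16, 8300, 12, 12396, 1, 16492, 12, 20588, 16, 24684, 1, 28780, 16, 32876, 12, 36972, 1, 41068, 12, 28, 32, 4128, 36, 4132, 40, 4136, 48, 4144, 52, 4148, 56, 4152, 64] l0_D0 [l0_K125_0, l0_K125_1, l0_K125_2, 0, l0_K125_4, 0, l0_K125_6, 0, l0_K125_8, 0, l0_K125_10, 0, l0_K125_12, 0] (fun D K => Nat.beq D l0_D0 && beqL K [l0_K126_0, l0_K126_1, l0_K126_2, 0, l0_K126_4, 0, l0_K126_6, 0, l0_K126_8, 0, l0_K126_10, 0, l0_K126_12, 0]) = true := by decide +kernel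
theorem l0_r127 : l0_E.run [4160, 68, 4164, 76, 4172, 84, 0, 4180, 20, 8276, 5, 12372, 5, 28, 4124, 32, 4128, 36, 4132, 40, 48, 4144, 52, 4148, 56, 4152, 4160, 68, 4164, 76, 4172, 84, 0, 4180, 20, 8276, 5, 12372, 5, 28, 4124, 32, 4128, 36, 4132, 40, 4136, 48, 52, 4148, 56, 4152, 64, 4160, 68, 4164, 76, 4172, 84, 0, 4180, 20, 8276, 5, 12372, 5, 28, 32, 4128, 36, 40, 4136, 48, 4144, 4148, 56, 4152, 4164, 4172, 84, 0, 4180, 8276, 5, 12372, 5, 28, 4124, 4128, 36, 4132, 4136, 4144, 4148, 56, 4152, 4160, 68, 4164, 76, 4172, 84, 0, 4180, 8276, 5, 12372, 5, 4124, 4128, 4132, 40, 48, 52, 4148, 4152, 4160, 4164, 4172, 8276, 5, 48, 24, 4120, 44, 4140, 72, 80, 4176, 4124, 4128, 36, 4132, 48, 4144, 52, 56, 64, 76, 4172, 8276, 5, 12372, 5, 4128, 48, 4144, 68, 4128, 72, 76, 48, 88, 0, 8280, 12, 12376] l0_D0 [l0_K126_0, l0_K126_1, l0_K126_2, 0, l0_K126_4,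 0, l0_K126_6, 0, l0_K126_8, 0, l0_K126_10, 0, l0_K126_12, 0] (fun D K => Nat.beq D l0_D0 && beqL K [l0_K127_0, l0_K127_1, l0_K127_2, 0, l0_K127_4, 0, l0_K127_6, 0, l0_K127_8, 0, l0_K127_10, 0, l0_K127_12, 0]) = true := by decide +kernel
theorem l0_r128 : l0_E.run [8, 92, 4188, 5, 8284, 12, 12380, 5, 16476, 12, 20572, 28764, 1, 36956, 1, 96, 8288, 8, 12384, 5, 16480, 8, 28768, 1, 28, 4124, 32, 36, 40, 4136, 48, 4144, 52, 4152, 64, 4160, 68, 4164, 76, 4172, 84, 0, 4180, 20, 8276, 5, 12372, 5, 4124, 32, 4128, 36, 4132, 40, 4136, 48, 4144, 52, 4148, 56, 4152, 64, 4160, 68, 4164, 76, 4172, 84, 0, 4180, 20, 8276, 5, 12372, 5, 28, 4124, 32, 36, 4132, 40, 4136, 52, 56, 4152, 4164, 4172, 84, 0, 4180, 20, 8276, 5, 12372, 5, 28, 4124, 32, 4128, 36, 4132, 40, 4136, 48, 52, 56, 4152, 68, 4164, 76, 4172, 84, 0, 4180, 20, 8276, 5, 12372, 5, 28, 4124, 32,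 4128, 36, 4132, 4136, 48, 4148, 4152, 64, 4160, 68, 4164, 4172, 84, 0, 4180, 8276, 5, 12372, 5, 28, 4124, 32, 4128, 4132, 4136] l0_D0 [l0_K127_0, l0_K127_1, l0_K127_2, 0, l0_K127_4, 0, l0_K127_6, 0, l0_K127_8, 0, l0_K127_10, 0, l0_K127_12, 0] (fun D K => Nat.beq D l0_D0 && beqL K [l0_K128_0, l0_K128_1, l0_K128_2, 0, l0_K128_4, 0, l0_K128_6, 0, l0_K128_8, 0, l0_K128_10, 0, l0_K128_12, 0]) = true := by decide +kernel
theorem l0_r129 : l0_E.run [48, 4148, 4152, 64, 4160, 68, 4164, 4172, 84, 0, 8276, 5, 12372, 5, 4136, 4148, 4152, 68, 4164, 8276, 5, 4160, 84, 0, 4180, 4124, 4128, 4132, 52, 56, 4120, 44, 4140, 72, 4168, 80, 4176, 28, 4124, 32, 4128, 4132, 40, 4136, 48, 4144, 52, 56, 64, 68, 76, 8276, 5, 12372, 5, 4124, 32, 36, 40, 48, 4144, 52, 84, 0, 4180, 20, 12372, 5, 28, 4124, 32, 4128, 36, 4132, 40, 48, 4152, 68, 4164, 4172, 8276, 5, 12372,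 5, 4124, 32, 36, 4136, 56, 4152, 4160, 4164, 8276, 5, 12372, 5, 40, 52, 4148, 56, 4144, 4148, 4120, 72, 88, 0, 8280, 12, 12376, 8, 16472, 36952, 8, 92, 4188, 5, 8284, 12, 12380, 5, 16476, 12, 20572, 28764, 1, 32860, 12, 36956, 1, 96, 8288, 8] l0_D0 [l0_K128_0, l0_K128_1, l0_K128_2, 0, l0_K128_4, 0, l0_K128_6, 0, l0_K128_8, 0, l0_K128_10, 0, l0_K128_12, 0] (fun D K => Nat.beq D l0_D0 && beqL K [l0_K129_0, l0_K129_1, l0_K129_2, 0, l0_K129_4, 0, l0_K129_6, 0, l0_K129_8, 0, l0_K129_10, 0, l0_K129_12, 0]) = true := by decide +kernel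
theorem l0_r130 : l0_E.run [12384, 5, 16480, 8, 20576, 24672, 8, 28768, 1, 32864, 8, 36960, 1, 28, 32, 4128, 36, 4132, 40, 4136, 48, 4144, 52, 4148, 56, 4152, 64, 4160, 68, 4164, 4172, 84, 0, 4180, 20, 8276, 5, 12372, 5, 28, 4124, 32, 4128, 36, 4132, 40, 4136, 48, 4144, 52, 4148, 56, 4152, 64, 4160, 68, 4164, 76, 4172, 84, 0, 4180, 20, 12372, 5, 28, 4124, 32, 4128, 36, 4132, 40, 4136, 48, 4144, 52, 4148, 4152, 64, 68, 4164, 4172, 84, 0, 4180, 20, 8276, 5, 12372, 5, 28, 4124, 32, 4128, 36, 4132, 40, 4136, 48, 52, 4148, 56, 4152, 64, 68, 4164, 4172, 8276, 5, 12372, 5, 28, 32, 36, 40, 4136, 4144, 4152, 68, 4164, 8276, 5, 4128, 24, 4120, 44, 4140, 72, 4168, 80, 4176, 28, 4124, 32, 4128, 36, 4132, 40, 48, 52, 4148, 56, 64, 4160, 68, 76, 8276] l0_D0 [l0_K129_0, l0_K129_1, l0_K129_2, 0, l0_K129_4, 0, l0_K129_6, 0, l0_K129_8, 0, l0_K129_10, 0, l0_K129_12,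 0] (fun D K => Nat.beq D l0_D0 && beqL K [l0_K130_0, l0_K130_1, l0_K130_2, 0, l0_K130_4, 0, l0_K130_6, 0, l0_K130_8, 0, l0_K130_10, 0, l0_K130_12, 0]) = true := by decide +kernel

end Cfsg.Agent.ONC
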