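import Cfsg.Agent.ONC.L0_0
import Cfsg.Agent.ONC.L0_1
import Cfsg.Agent.ONC.L0_2
import Cfsg.Agent.ONC.L0_3
import Cfsg.Agent.ONC.L0_4
import Cfsg.Agent.ONC.L0_5
import Cfsg.Agent.ONC.L0_6
import Cfsg.Agent.ONC.L0_7

set_option autoImplicit false
set_option Elab.async false
set_option maxRecDepth 100000
set_option linter.all false

namespace Cfsg.Agent.ONC
open Cfsg.Agent.CGT

theorem l0_g : l0_S.goals l0_W 56361 = true := by decide +kernel
theorem l0_mem {G : Type*} [Group G] {γ : ℕ → G} (hR : Holds (ext γ) l0_R) {H : Subgroup G}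
    (hS : ∀ u ∈ l0_S0, ev (ext γ) u ∈ H) : ∀ u ∈ l0_W, ev (ext γ) u ∈ H :=
  have hy := STC.hypOK_sound hR hS l0_h
  STC.Upto.goals ((((((((((((((((((((STC.upto_zero).step hy l0_c0).step hy l0_c1).step hy l0_c2).step hy l0_c3).step hy l0_c4).step hy l0_c5).step hy l0_c6).step hy l0_c7).step hy l0_c8).step hy l0_c9).step hy l0_c10).step hy l0_c11).step hy l0_c12).step hy l0_c13).step hy l0_c14).step hy l0_c15).step hy l0_c16).step hy l0_c17).step hy l0_c18) l0_g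
theorem l0_p : Holds (lp l0_ns) l0_R := ((holdsB_sound l0_v l0_p0).append ((holdsB_sound l0_v l0_p1).append ((holdsB_sound l0_v l0_p2).append ((holdsB_sound l0_v l0_p3).append ((holdsB_sound l0_v l0_p4).append ((holdsB_sound l0_v l0_p5).append ((holdsB_sound l0_v l0_p6).append (holdsB_sound l0_v l0_p7))))))))
theorem l0_fin {G : Type*} [Group G] {γ : ℕ → G} (hR : Holds (ext γ) l0_R) {H : Subgroup G}
    (hS : ∀ u ∈ l0_S0, ev (ext γ) u ∈ H) : l0_E.Fin γ H 122760 [0, 2, 4, 6, 8, 10, 12] :=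
  have hy : l0_E.Hyp γ H := Enum.hyp_of l0_v hR l0_p (forall_mem_append' hS (l0_mem hR hS)) l0_f
  (Enum.fin_of_done hy (Enum.run_to hy (Enum.run_to hy (Enum.run_to hy (Enum.run_to hy (Enum.run_to hy (Enum.run_to hy (Enum.run_to hy (Enum.run_to hy (Enum.run_to hy (Enum.run_to hy (Enum.run_to hy (Enum.run_to hy (Enum.run_to hy (Enum.run_to hy (Enum.run_to hy (Enum.run_to hy (Enum.run_to hy (Enum.run_to hy (Enum.run_to hy (Enum.run_to hy (Enum.run_to hy (Enum.run_to hy (Enum.run_to hy (Enum.run_to hy (Enum.run_to hy (Enum.run_to hy (Enum.run_to hy (Enum.run_to hy (Enum.run_to hy (Enum.run_to hy (Enum.run_to hy (Enum.run_to hy (Enum.run_to hy (Enum.run_to hy (Enum.run_to hy (Enum.run_to hy (Enum.run_to hy (Enum.run_to hy (Enum.run_to hy (Enum.run_to hy (Enum.run_to hy (Enum.run_to hy (Enum.run_to hy (Enum.run_to hy (Enum.run_to hy (Enum.run_to hy (Enum.run_to hy (Enum.run_to hy (Enum.run_to hy (Enum.run_to hy (Enum.run_to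 hy (Enum.run_to hy (Enum.run_to hy (Enum.run_to hy (Enum.run_to hy (Enum.run_to hy (Enum.run_to hy (Enum.run_to hy (Enum.run_to hy (Enum.run_to hy (Enum.run_to hy (Enum.run_to hy (Enum.run_to hy (Enum.run_to hy (Enum.run_to hy (Enum.run_to hy (Enum.run_to hy (Enum.run_to hy (Enum.run_to hy (Enum.run_to hy (Enum.run_to hy (Enum.run_to hy (Enum.run_to hy (Enum.run_to hy (Enum.run_to hy (Enum.run_to hy (Enum.run_to hy (Enum.run_to hy (Enum.run_to hy (Enum.run_to hy (Enum.run_to hy (Enum.run_to hy (Enum.run_to hy (Enum.run_to hy (Enum.run_to hy (Enum.run_to hy (Enum.run_to hy (Enum.run_to hy (Enum.run_to hy (Enum.run_to hy (Enum.run_to hy (Enum.run_to hy (Enum.run_to hy (Enum.run_to hy (Enum.run_to hy (Enum.run_to hy (Enum.run_to hy (Enum.run_to hy (Enum.run_to hy (Enum.run_to hy (Enum.run_to hy (Enum.run_to hy (Enum.run_to hy (Enum.run_to hy (Enum.run_to hy (Enum.run_to hy (Enum.run_to hy (Enum.run_to hy (Enum.run_to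 hy (Enum.run_to hy (Enum.run_to hy (Enum.run_to hy (Enum.run_to hy (Enum.run_to hy (Enum.run_to hy (Enum.run_to hy (Enum.run_to hy (Enum.run_to hy (Enum.run_to hy (Enum.run_to hy (Enum.run_to hy (Enum.run_to hy (Enum.run_to hy (Enum.run_to hy (Enum.run_to hy (Enum.run_to hy (Enum.run_to hy (Enum.run_to hy (Enum.run_to hy (Enum.run_to hy (Enum.run_to hy (Enum.run_to hy (Enum.run_to hy (Enum.run_to hy (Enum.run_to hy (Enum.run_to hy (Enum.run_to hy (Enum.run_to hy (Enum.run_to hy (Enum.run_to hy (Enum.run_to hy (Enum.run_to hy (Enum.run_to hy (Enum.run_to hy (Enum.run_to hy (Enum.run_to hy (Enum.run_to hy (Enum.run_to hy (Enum.run_to hy (Enum.run_to hy (Enum.run_to hy (Enum.run_to hy (Enum.run_to hy (Enum.run_to hy (Enum.run_to hy (Enum.run_to hy (Enum.run_to hy (Enum.run_to hy (Enum.run_to hy (Enum.run_to hy (Enum.run_to hy (Enum.run_to hy (Enum.run_to hy (Enum.run_to hy (Enum.run_to hy (Enum.run_to hy (Enum.run_to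 hy (Enum.run_to hy (Enum.run_to hy (Enum.run_to hy (Enum.run_to hy (Enum.run_to hy (Enum.run_to hy (Enum.run_to hy (Enum.run_to hy (Enum.run_to hy (Enum.run_to hy (Enum.run_to hy (Enum.run_to hy (Enum.run_to hy (Enum.run_to hy (Enum.run_to hy (Enum.run_to hy (Enum.run_to hy (Enum.run_to hy (Enum.run_to hy (Enum.run_to hy (Enum.run_to hy (Enum.run_to hy (Enum.run_to hy (Enum.run_to hy (Enum.run_to hy (Enum.run_to hy (Enum.run_to hy (Enum.run_to hy (Enum.run_to hy (Enum.run_to hy (Enum.run_to hy (Enum.run_to hy (Enum.run_to hy (Enum.run_to hy (Enum.run_to hy (Enum.run_to hy (Enum.run_to hy (Enum.run_to hy (Enum.run_to hy (Enum.run_to hy (Enum.run_to hy (Enum.inv_init 14) l0_r0) l0_r1) l0_r2) l0_r3) l0_r4) l0_r5) l0_r6) l0_r7) l0_r8) l0_r9) l0_r10) l0_r11) l0_r12) l0_r13) l0_r14) l0_r15) l0_r16) l0_r17) l0_r18) l0_r19) l0_r20) l0_r21) l0_r22) l0_r23) l0_r24) l0_r25) l0_r26) l0_r27) l0_r28) l0_r29) l0_r30) l0_r31)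 l0_r32) l0_r33) l0_r34) l0_r35) l0_r36) l0_r37) l0_r38) l0_r39) l0_r40) l0_r41) l0_r42) l0_r43) l0_r44) l0_r45) l0_r46) l0_r47) l0_r48) l0_r49) l0_r50) l0_r51) l0_r52) l0_r53) l0_r54) l0_r55) l0_r56) l0_r57) l0_r58) l0_r59) l0_r60) l0_r61) l0_r62) l0_r63) l0_r64) l0_r65) l0_r66) l0_r67) l0_r68) l0_r69) l0_r70) l0_r71) l0_r72) l0_r73) l0_r74) l0_r75) l0_r76) l0_r77) l0_r78) l0_r79) l0_r80) l0_r81) l0_r82) l0_r83) l0_r84) l0_r85) l0_r86) l0_r87) l0_r88) l0_r89) l0_r90) l0_r91) l0_r92) l0_r93) l0_r94) l0_r95) l0_r96) l0_r97) l0_r98) l0_r99) l0_r100) l0_r101) l0_r102) l0_r103) l0_r104) l0_r105) l0_r106) l0_r107) l0_r108) l0_r109) l0_r110) l0_r111) l0_r112) l0_r113) l0_r114) l0_r115) l0_r116) l0_r117) l0_r118) l0_r119) l0_r120) l0_r121) l0_r122) l0_r123) l0_r124) l0_r125) l0_r126) l0_r127) l0_r128) l0_r129) l0_r130) l0_r131) l0_r132) l0_r133) l0_r134) l0_r135) l0_r136) l0_r137) l0_r138) l0_r139) l0_r140) l0_r141) l0_r142)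 l0_r143) l0_r144) l0_r145) l0_r146) l0_r147) l0_r148) l0_r149) l0_r150) l0_r151) l0_r152) l0_r153) l0_r154) l0_r155) l0_r156) l0_r157) l0_r158) l0_r159) l0_r160) l0_r161) l0_r162) l0_r163) l0_r164) l0_r165) l0_r166) l0_r167) l0_r168) l0_r169) l0_r170) l0_r171) l0_r172) l0_r173) l0_r174) l0_r175) l0_r176) l0_r177) l0_r178) l0_r179) l0_r180) l0_r181) l0_r182) l0_r183) l0_r184) l0_r185) l0_r186) l0_r187) l0_r188) l0_r189) l0_r190) l0_r191) l0_r192) l0_r193) l0_r194) l0_r195) l0_r196) l0_r197) l0_r198) l0_r199) l0_r200) l0_r201) l0_r202) l0_r203) l0_r204) l0_r205) l0_r206) l0_r207) l0_r208)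

end Cfsg.Agent.ONC
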