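import Cfsg.Agent.ONC.Rel
import Cfsg.Agent.ONC.L0
import Cfsg.Agent.ONC.L1

set_option autoImplicit false
set_option Elab.async false
set_option maxRecDepth 100000
set_option linter.all false

namespace Cfsg.Agent.ONC
open Cfsg.Agent.CGT

noncomputable def l2_n1 : Net := Net.cons 4 0x40c <|
  Net.cons 1 0x104 <|
  Net.cons 2 0x1020 <|
  Net.cons 4 0x40c <|
  Net.nil
noncomputable def l2_n2 : Net := Net.cons 1 0x1004 <|
  Net.cons 2 0x210 <|
  Net.nil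
noncomputable def l2_n3 : Net := Net.cons 8 0xc0 <|
  Net.cons 4 0x800 <|
  Net.cons 2 0x2 <|
  Net.cons 1 0x4 <|
  Net.cons 2 0x1302 <|
  Net.cons 4 0xd00 <|
  Net.cons 8 0xc0 <|
  Net.nil
noncomputable def l2_n4 : Net := Net.cons 4 0x204 <|
  Net.cons 1 0x1005 <|
  Net.cons 2 0x330 <|
  Net.cons 4 0x204 <|
  Net.nil
noncomputable def l2_ns : List Net := [Net.nil, l2_n1, l2_n2, l2_n3, l2_n4, Net.nil, Net.nil]
noncomputable def l2_R : List (List ℕ) := [[2, 2], [4, 4], [6, 6], [8, 8], [12, 12], [2, 4, 2, 4, 2, 4], [2, 6, 2, 6], [2, 8, 2, 8], [2, 12, 2, 12], [4, 6, 4, 6, 4, 6], [4, 8, 4, 8], [4, 12, 4, 12], [6, 8, 6, 8, 6, 8, 6, 8, 6, 8, 6, 8, 6, 8, 6, 8], [6, 12, 6, 12], [8, 12, 8, 12], [2, 12, 8, 6, 8, 6, 8, 6, 8, 6]]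
noncomputable def l2_S0 : List (List ℕ) := [[2], [4], [6], [12]]
noncomputable def l2_E : Enum := ⟨l2_ns, l2_R, l2_S0, [], 0⟩
theorem l2_v : validAll (2 ^ 4) l2_ns = true := by decide +kernel
theorem l2_p0 : holdsB 4 l2_ns l2_R = true := by decide +kernel
theorem l2_p : Holds (lp l2_ns) l2_R := holdsB_sound l2_v l2_p0
theorem l2_f : allL l2_E.Sub (fixN l2_E.ns l2_E.b0) = true := by decide +kernel
theorem l2_r0 : l2_E.run [34, 12, 26, 8, 34, 12, 18, 4, 26, 8, 34, 12, 10, 0, 18, 4, 4120, 4124, 4136, 4124, 3, 7, 11, 15, 28, 40, 4152, 24, 28, 4148, 4152, 4140, 4148, 4152, 4128, 4140, 4116, 4132, 4120, 12348, 36, 40, 20, 4132] (1 <<< 0) (List.replicate 14 0) (Enum.done 14 [2, 4, 6, 8, 12]) = true := by decide +kernel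
theorem l2_fin {G : Type*} [Group G] {γ : ℕ → G} (hR : Holds (ext γ) l2_R) {H : Subgroup G}
    (hS : ∀ u ∈ l2_S0, ev (ext γ) u ∈ H) : l2_E.Fin γ H 14 [2, 4, 6, 8, 12] :=
  have hy : l2_E.Hyp γ H := Enum.hyp_of l2_v hR l2_p hS l2_f
  (Enum.fin_of_done hy (Enum.inv_init 14) l2_r0)
noncomputable def l3_n6 : Net := Net.cons 1 0x1 <|
  Net.nil
noncomputable def l3_ns : List Net := [Net.nil, Net.nil, Net.nil, Net.nil, Net.nil, Net.nil, l3_n6]
noncomputable def l3_R : List (List ℕ) := [[2, 2], [4, 4], [6, 6], [12, 12], [2, 4, 2, 4, 2, 4], [2, 6, 2, 6], [2, 12, 2, 12], [4, 6, 4, 6, 4, 6], [4, 12, 4, 12], [6, 12, 6, 12]]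
noncomputable def l3_S0 : List (List ℕ) := [[2], [4], [6]]
noncomputable def l3_E : Enum := ⟨l3_ns, l3_R, l3_S0, [], 0⟩
theorem l3_v : validAll (2 ^ 3) l3_ns = true := by decide +kernel
theorem l3_p0 : holdsB 3 l3_ns l3_R = true := by decide +kernel
theorem l3_p : Holds (lp l3_ns) l3_R := holdsB_sound l3_v l3_p0
theorem l3_f : allL l3_E.Sub (fixN l3_E.ns l3_E.b0) = true := by decide +kernel
theorem l3_r0 : l3_E.run [50, 12, 3, 7, 11, 24, 32, 36] (1 <<< 0) (List.replicate 14 0) (Enum.done 2 [2, 4, 6, 12]) = true := by decide +kernel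
theorem l3_fin {G : Type*} [Group G] {γ : ℕ → G} (hR : Holds (ext γ) l3_R) {H : Subgroup G}
    (hS : ∀ u ∈ l3_S0, ev (ext γ) u ∈ H) : l3_E.Fin γ H 2 [2, 4, 6, 12] :=
  have hy : l3_E.Hyp γ H := Enum.hyp_of l3_v hR l3_p hS l3_f
  (Enum.fin_of_done hy (Enum.inv_init 14) l3_r0)
noncomputable def l4_n1 : Net := Net.cons 1 0x4 <|
  Net.nil
noncomputable def l4_n2 : Net := Net.cons 2 0x2 <|
  Net.cons 1 0x4 <|
  Net.cons 2 0x2 <|
  Net.nil
noncomputable def l4_n3 : Net := Net.cons 1 0x1 <|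
  Net.nil
noncomputable def l4_ns : List Net := [Net.nil, l4_n1, l4_n2, l4_n3, Net.nil, Net.nil, Net.nil]
noncomputable def l4_R : List (List ℕ) := [[2, 2], [4, 4], [6, 6], [2, 4, 2, 4, 2, 4], [2, 6, 2, 6], [4, 6, 4, 6, 4, 6]]
noncomputable def l4_S0 : List (List ℕ) := [[2], [4]]
noncomputable def l4_E : Enum := ⟨l4_ns, l4_R, l4_S0, [], 0⟩
theorem l4_v : validAll (2 ^ 3) l4_ns = true := by decide +kernel
theorem l4_p0 : holdsB 3 l4_ns l4_R = true := by decide +kernel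
theorem l4_p : Holds (lp l4_ns) l4_R := holdsB_sound l4_v l4_p0
theorem l4_f : allL l4_E.Sub (fixN l4_E.ns l4_E.b0) = true := by decide +kernel
theorem l4_r0 : l4_E.run [26, 8, 18, 4, 10, 0, 3, 7, 16, 4108, 4116, 4112] (1 <<< 0) (List.replicate 8 0) (Enum.done 4 [2, 4, 6]) = true := by decide +kernel
theorem l4_fin {G : Type*} [Group G] {γ : ℕ → G} (hR : Holds (ext γ) l4_R) {H : Subgroup G}
    (hS : ∀ u ∈ l4_S0, ev (ext γ) u ∈ H) : l4_E.Fin γ H 4 [2, 4, 6] :=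
  have hy : l4_E.Hyp γ H := Enum.hyp_of l4_v hR l4_p hS l4_f
  (Enum.fin_of_done hy (Enum.inv_init 8) l4_r0)
noncomputable def l5_n1 : Net := Net.cons 2 0x2 <|
  Net.cons 1 0x4 <|
  Net.cons 2 0x2 <|
  Net.nil
noncomputable def l5_n2 : Net := Net.cons 1 0x1 <|
  Net.nil
noncomputable def l5_ns : List Net := [Net.nil, l5_n1, l5_n2, Net.nil, Net.nil, Net.nil, Net.nil]
noncomputable def l5_R : List (List ℕ) := [[2, 2], [4, 4], [2, 4, 2, 4, 2, 4]]
noncomputable def l5_S0 : List (List ℕ) := [[2]]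
noncomputable def l5_E : Enum := ⟨l5_ns, l5_R, l5_S0, [], 0⟩
theorem l5_v : validAll (2 ^ 3) l5_ns = true := by decide +kernel
theorem l5_p0 : holdsB 3 l5_ns l5_R = true := by decide +kernel
theorem l5_p : Holds (lp l5_ns) l5_R := holdsB_sound l5_v l5_p0
theorem l5_f : allL l5_E.Sub (fixN l5_E.ns l5_E.b0) = true := by decide +kernel
theorem l5_r0 : l5_E.run [18, 4, 10, 0, 3, 4104] (1 <<< 0) (List.replicate 6 0) (Enum.done 3 [2, 4]) = true := by decide +kernel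
theorem l5_fin {G : Type*} [Group G] {γ : ℕ → G} (hR : Holds (ext γ) l5_R) {H : Subgroup G}
    (hS : ∀ u ∈ l5_S0, ev (ext γ) u ∈ H) : l5_E.Fin γ H 3 [2, 4] :=
  have hy : l5_E.Hyp γ H := Enum.hyp_of l5_v hR l5_p hS l5_f
  (Enum.fin_of_done hy (Enum.inv_init 6) l5_r0)
noncomputable def l6_n1 : Net := Net.cons 1 0x1 <|
  Net.nil
noncomputable def l6_ns : List Net := [Net.nil, l6_n1, Net.nil, Net.nil, Net.nil, Net.nil, Net.nil]
noncomputable def l6_R : List (List ℕ) := [[2, 2]]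
noncomputable def l6_S0 : List (List ℕ) := []
noncomputable def l6_E : Enum := ⟨l6_ns, l6_R, l6_S0, [], 0⟩
theorem l6_v : validAll (2 ^ 3) l6_ns = true := by decide +kernel
theorem l6_p0 : holdsB 3 l6_ns l6_R = true := by decide +kernel
theorem l6_p : Holds (lp l6_ns) l6_R := holdsB_sound l6_v l6_p0
theorem l6_f : allL l6_E.Sub (fixN l6_E.ns l6_E.b0) = true := by decide +kernel
theorem l6_r0 : l6_E.run [10, 0] (1 <<< 0) (List.replicate 4 0) (Enum.done 2 [2]) = true := by decide +kernel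
theorem l6_fin {G : Type*} [Group G] {γ : ℕ → G} (hR : Holds (ext γ) l6_R) {H : Subgroup G}
    (hS : ∀ u ∈ l6_S0, ev (ext γ) u ∈ H) : l6_E.Fin γ H 2 [2] :=
  have hy : l6_E.Hyp γ H := Enum.hyp_of l6_v hR l6_p hS l6_f
  (Enum.fin_of_done hy (Enum.inv_init 4) l6_r0)
theorem bd6 {G : Type*} [Group G] {γ : ℕ → G} (hR : Holds (ext γ) RR) : Bd (gp γ [2]) 2 :=
  Bd.step (l6_fin ((hR).subR (by decide +kernel)) (wordsIn_sound γ (L := []) (by decide +kernel))) (Bd.gp_nil γ) (by norm_num)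
theorem bd5 {G : Type*} [Group G] {γ : ℕ → G} (hR : Holds (ext γ) RR) : Bd (gp γ [2, 4]) 6 :=
  Bd.step (l5_fin ((hR).subR (by decide +kernel)) (wordsIn_sound γ (L := [2]) (by decide +kernel))) (bd6 hR) (by norm_num)
theorem bd4 {G : Type*} [Group G] {γ : ℕ → G} (hR : Holds (ext γ) RR) : Bd (gp γ [2, 4, 6]) 24 :=
  Bd.step (l4_fin ((hR).subR (by decide +kernel)) (wordsIn_sound γ (L := [2, 4]) (by decide +kernel))) (bd5 hR) (by norm_num)
theorem bd3 {G : Type*} [Group G] {γ : ℕ → G} (hR : Holds (ext γ) RR) : Bd (gp γ [2, 4, 6, 12]) 48 :=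
  Bd.step (l3_fin ((hR).subR (by decide +kernel)) (wordsIn_sound γ (L := [2, 4, 6]) (by decide +kernel))) (bd4 hR) (by norm_num)
theorem bd2 {G : Type*} [Group G] {γ : ℕ → G} (hR : Holds (ext γ) RR) : Bd (gp γ [2, 4, 6, 8, 12]) 672 :=
  Bd.step (l2_fin ((hR).subR (by decide +kernel)) (wordsIn_sound γ (L := [2, 4, 6, 12]) (by decide +kernel))) (bd3 hR) (by norm_num)
theorem bd1 {G : Type*} [Group G] {γ : ℕ → G} (hR : Holds (ext γ) RR) : Bd (gp γ [2, 4, 6, 8, 10, 12]) 3753792 :=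
  Bd.step (l1_fin ((hR).subR (by decide +kernel)) (wordsIn_sound γ (L := [2, 4, 6, 8, 12]) (by decide +kernel))) (bd2 hR) (by norm_num)
theorem bd0 {G : Type*} [Group G] {γ : ℕ → G} (hR : Holds (ext γ) RR) : Bd (gp γ [0, 2, 4, 6, 8, 10, 12]) 460815505920 :=
  Bd.step (l0_fin ((hR).subR (by decide +kernel)) (wordsIn_sound γ (L := [2, 4, 6, 8, 10, 12]) (by decide +kernel))) (bd1 hR) (by norm_num)

end Cfsg.Agent.ONC
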