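import Cfsg.Agent.Mult.Slices
import Cfsg.Agent.ONC.Tabs

set_option autoImplicit false
set_option Elab.async false
set_option maxRecDepth 100000
set_option linter.all false

namespace Cfsg.Agent.ONC
open Cfsg.Agent.CGT

open Cfsg.Agent.Mult

noncomputable def u2_D : PC := ⟨2, 9, 2, 20,
  [[0x1400, 0x44, 0x1410, 0x40, 0x500, 0x400, 0x1000, 0x4000, 0x10000], [0, 0x14000, 0x110, 0x14040, 0x1100, 0x4400, 0x11000, 0x4000, 0x10000], [0, 0, 0x10000, 0x440, 0x11100, 0x10400, 0x11000, 0x14000, 0x10000], [0, 0, 0, 0x14000, 0x4100, 0x400, 0x1000, 0x4000, 0x10000], [0, 0, 0, 0, 0x1000, 0x10400, 0x1000, 0x4000, 0x10000], [0, 0, 0, 0, 0, 0x10000, 0x1000, 0x4000, 0x10000], [0, 0, 0, 0, 0, 0, 0x10000, 0x4000, 0x10000], [0, 0, 0, 0, 0, 0, 0, 0, 0x10000], [0, 0, 0, 0, 0, 0, 0, 0, 0]],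
  [0xcf, 0x3ff, 0x3ff, 3, 3, 0, 0, 0, 0],
  [(9, 0x101, 0x10010), (9, 0x110, 0x10400), (9, 0x1000, 0x11141), (9, 0x4000, 0x4141), (9, 0x10000, 0x10000), (10, 1, 0x1401), (10, 4, 0x4044), (10, 0x100, 0x105), (10, 0x400, 0x440), (10, 0x1000, 0x15040)], 19, 0x40000050302070008000100000000060000⟩
noncomputable def u2_ds : List (List ℕ) := [[2, 10, 8, 6, 1, 4, 2, 8, 6, 4, 8, 6, 10, 8, 6, 12, 10, 8, 4, 6, 12, 10, 1, 4, 2, 8, 6, 4, 10, 0], [0, 4, 0, 2, 8, 6, 8, 6, 10, 8, 6, 4, 8, 6, 10, 8, 1, 4, 10, 8, 6, 8, 10, 0, 4, 2, 6, 10, 8, 6], [12, 4, 6, 8, 6, 4, 10, 8, 6, 8, 12, 10, 0, 4, 10, 1, 8, 6, 8, 1, 4, 10, 8, 1, 6, 8, 10, 1, 2, 4, 6], [8, 12, 6, 8, 10, 6, 8, 4, 6, 8, 10, 6, 4, 0, 10, 8, 6, 8, 10, 1, 1, 4, 6, 8, 10, 4, 6, 2, 4, 12, 0, 10], [8, 1, 10, 8, 1, 10, 6, 8, 4, 6, 0, 4,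 0, 10, 8, 6, 8, 10, 1, 1, 8, 4, 6, 8, 10, 6, 4, 12], [2, 12, 1, 8, 10, 8, 6, 0, 8, 1, 10, 4, 6, 8, 6, 8, 4, 0, 6, 8, 10, 4, 6, 8, 6, 8, 4, 0, 4], [0, 6, 1, 4, 6, 8, 10, 6, 8, 4, 6, 4, 0, 8, 6, 8, 4, 6, 8, 10, 6, 8, 4, 6, 8, 10, 6, 12, 1, 4, 6], [8, 1, 4, 6, 2, 4, 0, 4, 8, 10, 6, 8, 6, 10, 12, 8, 10, 4, 6, 8, 6, 8, 10, 8, 4, 8, 6, 8, 6, 1, 4, 10], [8, 6, 8, 4, 6, 10, 1, 10, 8, 6, 8, 1, 4, 6, 8, 10, 1, 4, 8, 6, 1, 8], [12, 2, 6, 8, 10, 4, 1, 4, 6, 8, 10, 8, 4, 0, 6, 4, 10, 8, 2, 4, 6, 8, 10, 6, 8, 4, 6, 4, 1, 8], [10, 1, 12, 4, 6, 4, 2, 8, 6, 4, 10, 8, 6, 8, 6, 10, 8, 6, 1, 10, 8, 6, 0, 4, 8, 6, 2, 4, 1, 10, 8, 6]]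
noncomputable def u2_c : Mult.Cert := ⟨49, 18, [[], [], [], [1], [11], [21], [13], [14], [25]],
  [],
  [[0x8fe47acdf0, 0, 0xc8d1704808, 0x102000004, 0x628a95a0, 0x102002000, 0x10102002000, 0x280000000, 0x80000000], [0, 0x13a4653f8f7, 0, 0xb898fb02a4, 0, 0, 0x9fbafa00a0, 0x8015800000, 0x15800000], [0, 0, 0x18dc530c0c0, 0, 0x5009804800, 0x186c774b000, 0x9bb7f000a0, 0, 0x4000000000], [0, 0, 0, 0x1aac6a02a4, 0x1ac45902400, 0xaa0400000, 0xba0400000, 0x2040000000, 0x40000000], [0, 0, 0, 0, 0xcfabf208a0, 0x8b85701000, 0x1000000000, 0x8b95f00000, 0x8000000], [0, 0, 0, 0, 0, 0x1868270b000, 0x2000000, 0x820000000, 0x800000000], [0, 0, 0, 0, 0, 0, 0x8bbaf200a0, 0x410000000, 0x400000000], [0, 0, 0, 0, 0, 0, 0, 0x8035900000, 0x4000000], [0, 0, 0, 0, 0, 0, 0, 0, 0x5000000]]⟩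

end Cfsg.Agent.ONC
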