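import Cfsg.Agent.ONC.OutU
import Cfsg.Agent.CGT.Out3

set_option autoImplicit false
set_option Elab.async false
set_option maxRecDepth 100000
set_option linter.all false

namespace Cfsg.Agent.ONC
open Cfsg.Agent.CGT

noncomputable def od : OutD := ⟨17, m_ts, (chainBase [] c_ls), [10, 0, 12, 10, 8, 0, 4, 6, 8, 10, 6, 8, 12, 10], [2, 8, 6, 8, 10, 12, 4, 6, 8, 10, 6, 8, 4, 0, 6, 8, 2, 4, 6, 8, 12, 10, 8, 2, 4, 6, 8, 6, 4], [1, 10, 6, 8, 6, 0, 4, 0, 6, 8, 10, 4, 6, 8, 0, 6, 4, 0, 8, 4, 6, 10, 8, 10, 6, 8, 10, 2, 4, 6, 8, 12, 10, 2, 4, 6, 8, 12, 2], [2, 8, 6, 8, 10, 12, 4, 6, 8, 10, 6, 8, 4, 0, 6, 8, 2, 4, 6, 8, 12, 10, 8, 2, 4, 6, 8, 6, 4], 31, 7, 1, 1, 14, [1, 3], [[1, 8, 4, 0, 6, 8, 10, 1, 4, 6, 8, 10, 8, 0, 2, 10, 8, 6,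 8, 4, 6, 8, 10, 8, 6, 8, 4, 6, 8, 10, 6, 8, 12, 2, 4], [0, 6, 0, 12, 10, 8, 12, 10, 6, 4, 0, 8, 10, 4, 6, 8, 6, 2, 4, 0, 12, 8, 10, 4, 8, 6, 8, 2, 4, 6, 8, 10, 8, 4, 6, 2]], [[0, 4, 0, 4, 0, 4, 0, 4, 0, 4, 0, 4, 0, 4, 0, 4], [0, 5, 1, 3, 4, 0, 5, 1, 3, 4, 0, 5, 1, 3, 4, 0, 5, 1, 3, 4, 0, 5, 1, 3, 4, 0, 5, 1, 3, 4, 0, 5, 1, 3, 4, 0, 5, 1, 3, 4]], [[[10, 0, 12, 10, 8, 0, 4, 6, 8, 10, 6, 8, 12, 10], [2, 8, 6, 8, 10, 12, 4, 6, 8, 10, 6, 8, 4, 0, 6, 8, 2, 4, 6, 8, 12, 10, 8, 2, 4, 6, 8, 6, 4], [1, 10, 6, 8, 6, 0, 4, 0, 6, 8, 10, 4, 6, 8, 0, 6, 4, 0, 8, 4, 6, 10, 8, 10, 6, 8, 10, 2, 4, 6, 8, 12, 10, 2, 4, 6, 8, 12, 2]], [[10, 1, 10, 1, 4, 6, 8, 6, 4, 0, 6, 8, 2, 12, 10, 6, 8, 6, 4, 6, 8, 10, 6, 8, 12, 10, 8, 6, 8, 12, 6], [2,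 8, 6, 8, 10, 12, 4, 6, 8, 10, 6, 8, 4, 0, 6, 8, 2, 4, 6, 8, 12, 10, 8, 2, 4, 6, 8, 6, 4], [8, 10, 1, 10, 12, 8, 4, 6, 8, 10, 0, 4, 2, 6, 8, 6, 4, 10, 8, 6, 4, 8, 10, 12, 6, 8, 10, 6, 8, 4, 6, 8, 10, 8, 6, 8]]]⟩
theorem od_b : od.basic 460815505920 0 = true := by decide +kernel
theorem od_c : conjB 17 m_ts (chainBase [] c_ls) [10, 12, 8, 6, 4, 2, 8, 6, 10, 8, 6, 4, 1, 4, 2, 10, 1] od.u cu_S.u od.Cl cu_S.Cl = true := by decide +kernel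
theorem od_k1_0 : od.cands 1 ((([] :: od.Cl).drop 0).take 3) [[0, 1, 1, 1, 1, 3, 1, 1, 1, 1, 1, 1, 1, 1, 1], [1, 1, 1, 1, 1, 1, 1, 1, 1, 1, 1, 1, 1, 1, 1], [1, 1, 1, 1, 1, 1, 1, 1, 1, 1, 1, 1, 1, 1, 1]] = true := by decide +kernel
theorem od_k3_0 : od.cands 3 ((([] :: od.Cl).drop 0).take 3) [[1, 1, 1, 1, 1, 1, 1, 1, 1, 1, 1, 1, 1, 1, 1], [1, 1, 1, 1, 1, 1, 1, 1, 1, 1, 1, 1, 1, 1, 1], [1, 1, 1, 1, 1, 2, 1, 1, 1, 1, 3, 1, 1, 1, 1]] = true := by decide +kernel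

end Cfsg.Agent.ONC
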