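import Cfsg.Agent.ONC.OutX
import Cfsg.Agent.ONC.OutK
import Cfsg.Agent.ONC.OutG

set_option autoImplicit false
set_option Elab.async false
set_option maxRecDepth 100000
set_option linter.all false

namespace Cfsg.Agent.ONC
open Cfsg.Agent.CGT

noncomputable def bW : List (List ℕ) := [[0, 10, 4, 6, 8, 6, 4, 1, 6, 8, 10, 0, 8, 6, 10, 8, 12, 4, 6, 8, 10, 6, 8, 4, 6, 8, 10, 6, 8, 4, 6, 8, 10, 8, 6, 2, 4], [1, 8, 1, 10, 6, 8, 4, 6, 1, 4, 6, 8, 10, 12, 6, 8, 10, 6, 0, 8, 10, 6, 8, 6, 4, 6, 8, 10, 6, 8, 12, 10, 8, 12, 4], [2, 8, 1, 6, 10, 8, 4, 6, 8, 0, 10, 6, 8, 4, 6, 2, 4, 0, 10, 8, 6, 8, 6, 4, 8, 10, 8, 6, 8, 12, 10, 8, 6, 4], [10, 0, 6, 8, 4, 6, 8, 10, 8, 4, 0, 10, 8, 6, 4, 6, 8, 10, 6, 8, 12, 10, 4, 6, 8, 2, 4, 6, 8, 4, 6], [10, 6, 0, 8, 6, 8, 1, 4, 6, 8, 10, 1, 8, 6, 1, 4, 0,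 12, 8, 10, 2, 6, 4, 8, 6, 8, 10, 4, 6, 8, 6, 8, 4, 6, 8, 10, 2, 4, 6, 8], [6, 4, 10, 0, 4, 6, 8, 10, 8, 1, 10, 4, 6, 8, 6, 4, 0, 2, 8, 6, 8, 4, 6, 8, 10, 6, 8, 6, 8, 4, 6, 8, 10, 8, 6, 8, 6], [2, 6, 8, 6, 8, 4, 6, 8, 10, 0, 4, 6, 8, 4, 6, 4, 0, 6, 8, 4, 6, 8, 12, 10, 6, 8, 6, 8, 4, 6, 8, 4]]
noncomputable def bV : List (List ℕ) := [[1, 8, 0, 2, 4, 10, 8, 6, 4, 1, 8, 4, 6, 8, 10, 2, 4, 0, 4, 6, 8, 10, 8, 6, 8, 2, 4, 6, 8, 10, 8, 4, 6], [8, 0, 6, 0, 10, 8, 4, 6, 0, 8, 10, 1, 8, 6, 4, 0, 8, 6, 4, 12, 10, 8, 6, 8, 12, 10, 6, 8, 12, 4, 6, 4, 2], [4, 0, 2, 6, 8, 1, 10, 6, 8, 6, 8, 4, 6, 8, 10, 2, 4, 0, 10, 4, 6, 8, 12, 2, 4, 6, 4], [12, 10, 0, 10, 8, 6, 8, 4, 6, 8, 10, 0, 12, 6, 8, 10, 8, 6, 8, 4, 6, 8, 10, 6, 8, 12, 6], [12, 8, 1, 10, 8, 6, 8, 0, 4, 0, 6, 8, 10, 8, 6, 4, 0, 6, 8,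 10, 6, 8, 4, 6, 8, 10, 6, 8, 4, 6, 8, 10, 8, 2, 4, 2], [8, 1, 10, 8, 6, 0, 4, 6, 8, 10, 6, 8, 6, 0, 4, 0, 10, 8, 6, 4, 6, 8, 10, 6, 8, 6, 4, 8, 10, 6, 8, 10, 6, 8, 12, 10, 8, 4, 6, 8, 6, 4], [8, 6, 2, 8, 0, 10, 8, 4, 1, 6, 8, 2, 4, 6, 8, 10, 0, 2, 6, 8, 6, 8, 4, 6, 8, 10, 8, 6, 8, 2, 4, 6, 8, 10, 8, 12, 4, 6, 4]]
theorem od_s : od.second bW [] [10, 1, 10, 1, 4, 6, 8, 6, 4, 0, 6, 8, 2, 12, 10, 6, 8, 6, 4, 6, 8, 10, 6, 8, 12, 10, 8, 6, 8, 12, 6] [8, 10, 1, 10, 12, 8, 4, 6, 8, 10, 0, 4, 2, 6, 8, 6, 4, 10, 8, 6, 4, 8, 10, 12, 6, 8, 10, 6, 8, 4, 6, 8, 10, 8, 6, 8] = true := by decide +kernel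
theorem od_o : od.outer [10, 1, 10, 1, 4, 6, 8, 6, 4, 0, 6, 8, 2, 12, 10, 6, 8, 6, 4, 6, 8, 10, 6, 8, 12, 10, 8, 6, 8, 12, 6] [8, 10, 1, 10, 12, 8, 4, 6, 8, 10, 0, 4, 2, 6, 8, 6, 4, 10, 8, 6, 4, 8, 10, 12, 6, 8, 10, 6, 8, 4, 6, 8, 10, 8, 6, 8] ([] :: od.Cl) [[1, 1, 1, 1, 1, 1, 1, 1, 1, 1, 1, 1, 1, 1, 1], [1, 1, 1, 1, 1, 1, 1, 1, 1, 1, 1, 1, 1, 1, 1], [1, 1, 1, 1, 1, 1, 1, 1, 1, 1, 1, 1, 1, 1, 1]] = true := by decide +kernel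
theorem out_card {G : Type*} [Group G] {φ : G →* Equiv.Perm ℕ} {γ : ℕ → G} (C : Cert φ γ 17 l0_ns m_ts [0, 2, 4, 6, 8, 10, 12] c_ls)
    (hN : Nat.card G = 460815505920) (β : MulAut G) (hβ : ∀ j, β (γ j) = wg γ bW j) : Nat.card (Cfsg.Out G) = 2 :=
  haveI := C.fin
  OutD.out_two (D := od) C.M C.base hN (by norm_num [od]) od_b (cx_cent C) ((cu_cent C).conj C.M C.base od_c)
    (by
    intro k hk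
    simp only [od, List.mem_cons, List.not_mem_nil, or_false] at hk
    rcases hk with rfl | rfl
    exacts [forall_of_take (forall_take_step (c := 3) (forall_take_zero _) (OutD.cands_sound C.M C.base od_b od_k1_0) rfl) (by decide +kernel), forall_of_take (forall_take_step (c := 3) (forall_take_zero _) (OutD.cands_sound C.M C.base od_b od_k3_0) rfl) (by decide +kernel)]) (g_top C) rfl β hβ od_s od_o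
theorem out_eq : Nat.card (Cfsg.Out Cfsg.Spor.ON) = 2 := by
  obtain ⟨φ, C⟩ := cert
  have h : Holds (ext (wg γ bW)) RR := relsD_sound C.M C.base (by decide +kernel) (fun _ _ => trivial) (by decide +kernel)
  obtain ⟨f, hf⟩ := pres_lift gens_all gens_nodup (edges := Cfsg.Spor.ON.edges) (extra := Cfsg.Spor.ON.extra) (p := wg γ bW)
    (fun j hj => by rw [wg, nth_eq, List.getD_eq_default bW _ hj]; rfl) (h.subR (by decide +kernel))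
  obtain ⟨β, hβ⟩ := (haveI := C.fin; exists_aut' C.M C.base (by decide +kernel) C.gen (V := bV) f hf) (by decide +kernel)
  exact out_card C card_eq β hβ

end Cfsg.Agent.ONC
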